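import Groth.Agent.BaseAmpLib.Stalk
import Groth.Agent.DRingLib.LBaseChange
import Groth.Agent.S6948

/-!
# Relative tor amplitude and arbitrary base change of a flat morphism
-/

set_option autoImplicit false
set_option linter.style.haveILetI false
set_option backward.isDefEq.respectTransparency false
set_option backward.isDefEq.respectTransparency.types false
set_option maxHeartbeats 1000000

universe u

open CategoryTheory CategoryTheory.Limits AlgebraicGeometry HomologicalComplex MonoidalCategory TensorProduct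
open Groth.Agent
open TwoTermLib.RelAmp (resCx)

attribute [local instance] HasDerivedCategory.standard

noncomputable section

namespace RelAmpBCLib

/-- Restriction of scalars along a flat map preserves K-flatness. -/
theorem isKFlat_res {A B : Type u} [CommRing A] [CommRing B] (φ : A →+* B) (hφ : φ.Flat)
    {P : CochainComplex (ModuleCat.{u} B) ℤ} (hP : DRing.IsKFlat B P) :
    DRing.IsKFlat A ((resCx φ).obj P) := fun M hM i => by
  haveI : PreservesFiniteLimits (ModuleCat.extendScalars.{u, u, u} φ) :=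
    ModuleCat.preservesFiniteLimits_extendScalars_of_flat hφ
  haveI : PreservesColimitsOfSize.{u, u} (ModuleCat.extendScalars.{u, u, u} φ) :=
    (ModuleCat.extendRestrictScalarsAdj.{u, u, u} φ).leftAdjoint_preservesColimits
  haveI : PreservesFiniteColimits (ModuleCat.extendScalars.{u, u, u} φ) :=
    PreservesColimitsOfSize.preservesFiniteColimits.{u, u} _
  rw [TwoTermLib.RelAmp.isZero_tensor_res_iff φ P M i]
  have hE : ∀ j : ℤ, IsZero (((DRingLib.extCx φ).obj M).homology j) := fun j =>
    ((ModuleCat.extendScalars.{u, u, u} φ).map_isZero (hM j)).of_iso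
      ((M.sc j).mapHomologyIso (ModuleCat.extendScalars.{u, u, u} φ))
  exact (hP _ hE i).of_iso ((HomologicalComplex.homologyFunctor (ModuleCat.{u} B) (ComplexShape.up ℤ) i).mapIso
    (KFlatLib.tensorFlipIso P ((DRingLib.extCx φ).obj M)).symm)

/-- Tor amplitude is preserved by base change of a flat algebra, followed by a flat map. -/
theorem amp_baseChange {A A' B B' C : Type u} [CommRing A] [CommRing A'] [CommRing B] [CommRing B'] [CommRing C]
    (φ : A →+* B) (ι : A →+* A') (κ : B →+* B') (χ : A' →+* B')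
    (w : κ.comp φ = χ.comp ι) (hsq : TorLocLib.IsPushSq φ ι κ χ w) (hφ : φ.Flat)
    (r : B' →+* C) (hr : r.Flat) (ψ : B →+* C) (φ' : A' →+* C) (h₁ : r.comp κ = ψ) (h₂ : r.comp χ = φ')
    {P : CochainComplex (ModuleCat.{u} B) ℤ} (hP : DRing.IsKFlat B P) {a b : ℤ}
    (h : DRing.HasTorAmplitudeIn A a b (DerivedCategory.Q.obj ((resCx φ).obj P))) :
    DRing.HasTorAmplitudeIn A' a b
      (DerivedCategory.Q.obj ((resCx φ').obj ((DRingLib.extCx ψ).obj P))) := by
  haveI := DRingLib.hasLBaseChange ι
  have h₀ : DRing.HasTorAmplitudeIn A' a b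
      (DerivedCategory.Q.obj ((DRingLib.extCx ι).obj ((resCx φ).obj P))) :=
    DRingLib.hasTorAmplitudeIn_of_iso (DRingLib.lBaseChangeObjIso ι _ (isKFlat_res φ hφ hP))
      (Groth.Agent.S6948.result ι _ a b h)
  have h' : DRing.HasTorAmplitudeIn A' a b
      (DerivedCategory.Q.obj ((resCx χ).obj ((DRingLib.extCx κ).obj P))) :=
    DRingLib.hasTorAmplitudeIn_of_iso
      (DerivedCategory.Q.mapIso (TorLocLib.sqCxIso φ ι κ χ w hsq P)) h₀
  have h'' := RelFlatLib.amp_res_extCx χ r (χ := φ') h₂.symm (BaseAmpLib.amp_unit_of_flat r hr)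
    (KFlatLib.isKFlat_extend κ hP) h'
  rw [Nat.cast_zero, sub_zero] at h''
  exact DRingLib.hasTorAmplitudeIn_of_iso
    (DerivedCategory.Q.mapIso ((resCx φ').mapIso (TwoTermLib.RelAmp.extCompIso κ r h₁.symm P))) h''

variable {X Y X' Y' : Scheme.{u}} {f : X ⟶ Y} {g : Y' ⟶ Y} {f' : X' ⟶ Y'} {g' : X' ⟶ X}

/-- Base change of a flat morphism preserves relative tor amplitude. -/
theorem hasTorAmplitudeD_lpull (hc : IsPullback g' f' f g) [Flat f] [DCoh.HasLpull g']
    (F : CochainComplex X.Modules ℤ) (a b : ℤ) (hF : DerSch.HasTorAmplitude f a b F) :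
    DerSch.HasTorAmplitudeD f' a b ((DCoh.Lpull g').obj (DCoh.toD X F)) := by
  obtain ⟨P, hP, ⟨e⟩⟩ := KFlatLib.exists_good_rep (DCoh.toD X F)
  refine RelFlatLib.ampD_lpull_of_kflat g' f' hP.1 e fun x' => ?_
  letI := (f.stalkMap (g'.base x')).hom.toAlgebra
  letI := (BaseAmpLib.baseMap hc x').toAlgebra
  exact amp_baseChange _ _ _ _ _
    (BaseAmpLib.isPushSq_tensor (f.stalkMap (g'.base x')).hom (BaseAmpLib.baseMap hc x'))
    (Flat.stalkMap f (g'.base x')) (BaseAmpLib.stalkLift hc x') (BaseAmpLib.flat_stalkLift hc x') _ _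
    (RingHom.ext fun z => by
      show BaseAmpLib.stalkLift hc x' ((1 : Y'.presheaf.stalk (f'.base x')) ⊗ₜ z) = (g'.stalkMap x').hom z
      rw [BaseAmpLib.stalkLift_tmul]
      simp)
    (RingHom.ext fun z => by
      show BaseAmpLib.stalkLift hc x' (z ⊗ₜ (1 : X.presheaf.stalk (g'.base x'))) = (f'.stalkMap x').hom z
      rw [BaseAmpLib.stalkLift_tmul]
      simp)
    (KFlatLib.stalks_isKFlat hP.1 _) (RelFlatLib.ampAt_of_iso f e.symm (hF _))

end RelAmpBCLib
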